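import Cfsg.Agent.Lib.ThreePrimes.Lack
import Cfsg.Agent.Lib.Char.TwoDegrees
import Cfsg.Agent.Lib.Solvable.Fitting
import Cfsg.Agent.Lib.Solvable.Coprime
import Cfsg.Agent.Lib.Solvable.Structure
import Cfsg.Agent.Lib.Solvable.NilpotentFrattini

/-!
# Solvable groups with square-free character degrees

If every character degree of a solvable group `G` is square-free then a normal `p`-subgroup of
`G ⧸ F(G)` acts on the linear characters of the `p'`-part of `F(G)` with all orbits of length
at most `p`, so it has order at most `p`.  Hence `G ⧸ F(G)` is metabelian, and `F(G)` is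
metabelian since each of its Sylow subgroups has degrees `1` and `p` only.
-/

set_option autoImplicit false
set_option linter.style.haveILetI false
set_option linter.unusedSectionVars false

namespace Cfsg.Agent.SquarefreeDeg

open Cfsg.Agent
open scoped commutatorElement

universe u v

section Action

variable {A : Type u} [Group A] [Finite A] {E : Type v} [AddCommGroup E] [Finite E]
  [DistribMulAction A E]

/-- A `p`-group all of whose orbits on a `p'`-group have length at most `p` acts through a group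
of order at most `p`. -/
theorem exists_kernel {p : ℕ} [hp : Fact p.Prime] (hA : IsPGroup p A)
    (hE : (Nat.card E).Coprime p)
    (hidx : ∀ e : E, (MulAction.stabilizer A e).index ∣ p) :
    ∃ K : Subgroup A, K.index ∣ p ∧ ∀ a ∈ K, ∀ e : E, a • e = e := by
  classical
  by_cases htriv : ∀ e : E, MulAction.stabilizer A e = ⊤
  · exact ⟨⊤, by rw [Subgroup.index_top]; exact one_dvd p, fun a _ e =>
      MulAction.mem_stabilizer_iff.1 ((htriv e).symm ▸ Subgroup.mem_top a)⟩
  obtain ⟨e₁, he₁⟩ := not_forall.1 htriv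
  have hprime : ∀ e : E, MulAction.stabilizer A e ≠ ⊤ → (MulAction.stabilizer A e).index = p :=
    fun e he => ((Nat.dvd_prime hp.out).1 (hidx e)).resolve_left fun h1 =>
      he (Subgroup.index_eq_one.1 h1)
  set H := MulAction.stabilizer A e₁ with hH
  have hHn : H.Normal := by
    refine Subgroup.normal_of_index_eq_minFac_card ?_
    obtain ⟨k, hk⟩ := IsPGroup.iff_card.1 hA
    rw [hprime e₁ he₁, hk]
    rcases Nat.eq_zero_or_pos k with rfl | hk0
    · exfalso
      refine he₁ (Subgroup.eq_top_of_card_eq _ ?_)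
      rw [pow_zero] at hk
      exact le_antisymm (Subgroup.card_le_card_group _) (hk ▸ Nat.card_pos)
    · rw [hp.out.pow_minFac hk0.ne']
  refine ⟨H, hidx e₁, fun y hy e₂ => ?_⟩
  by_contra hy₂
  haveI : Fintype H := Fintype.ofFinite H
  have hperm : ∀ (z : A) (e : E), ∑ h : H, (h : A) • z • e = z • ∑ h : H, (h : A) • e := by
    intro z e
    rw [Finset.smul_sum]
    refine Fintype.sum_equiv
      { toFun := fun h : H => (⟨z⁻¹ * h * z, by simpa using hHn.conj_mem _ h.2 z⁻¹⟩ : H)
        invFun := fun h : H => (⟨z * h * z⁻¹, hHn.conj_mem _ h.2 z⟩ : H)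
        left_inv := fun h => Subtype.ext (by simp [mul_assoc])
        right_inv := fun h => Subtype.ext (by simp [mul_assoc]) } _ _ fun h => ?_
    simp [← mul_smul, mul_assoc]
  have hsum : ∀ (w : A), w ∈ H → ∀ e : E, w • ∑ h : H, (h : A) • e = ∑ h : H, (h : A) • e := by
    intro w hw e
    rw [Finset.smul_sum]
    refine Fintype.sum_equiv (Equiv.mulLeft ⟨w, hw⟩) _ _ fun h => ?_
    simp [mul_smul]
  set ν := ∑ h : H, (h : A) • e₂ with hν
  set μ := Fintype.card H • e₂ - ν with hμ
  obtain ⟨j, hj⟩ := IsPGroup.iff_card.1 (hA.to_subgroup H)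
  rw [Nat.card_eq_fintype_card] at hj
  have hcancel : ∀ d : E, Fintype.card H • d = 0 → d = 0 := by
    intro d hd
    rw [← AddMonoid.addOrderOf_eq_one_iff]
    exact Nat.eq_one_of_dvd_coprimes (hE.pow_right j) (addOrderOf_dvd_natCard d)
      (hj ▸ addOrderOf_dvd_of_nsmul_eq_zero hd)
  have hμy : y • μ ≠ μ := fun h => hy₂ (by
    rw [← sub_eq_zero]
    refine hcancel _ ?_
    rw [hμ, smul_sub, hsum y hy, sub_left_inj, smul_comm] at h
    rw [nsmul_sub, h, sub_self])
  have hμ0 : ∑ h : H, (h : A) • μ = 0 := by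
    simp only [hμ, smul_sub, Finset.sum_sub_distrib]
    rw [sub_eq_zero]
    calc ∑ h : H, (h : A) • Fintype.card H • e₂ = Fintype.card H • ν := by
          rw [hν, Finset.smul_sum]
          exact Finset.sum_congr rfl fun h _ => smul_comm _ _ _
      _ = ∑ h : H, (h : A) • ν := by
          rw [Finset.sum_congr rfl fun (h : H) _ => hsum h h.2 e₂, Finset.sum_const,
            Finset.card_univ]
  set S := MulAction.stabilizer A (e₁ + μ) with hS
  have hle : S ≤ H := by
    intro z hz
    rw [MulAction.mem_stabilizer_iff, smul_add] at hz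
    have hd : z • e₁ - e₁ = -(z • μ - μ) := by
      have : z • e₁ + z • μ - (e₁ + μ) = 0 := sub_eq_zero.2 hz
      rw [← sub_eq_zero, ← this]
      abel
    have hfix : ∀ h : H, (h : A) • (z • e₁ - e₁) = z • e₁ - e₁ := by
      intro h
      have h1 : (z⁻¹ * h * z) • e₁ = e₁ := by
        have h0 := hHn.conj_mem _ h.2 z⁻¹
        rw [inv_inv] at h0
        exact MulAction.mem_stabilizer_iff.1 h0
      have h2 : (h : A) • z • e₁ = z • e₁ := by
        conv_rhs => rw [← h1]
        simp [← mul_smul, mul_assoc]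
      rw [smul_sub, h2, MulAction.mem_stabilizer_iff.1 h.2]
    refine MulAction.mem_stabilizer_iff.2 (sub_eq_zero.1 (hcancel _ ?_))
    rw [← Finset.card_univ, ← Finset.sum_const, ← Finset.sum_congr rfl fun h _ => hfix h, hd]
    simp only [smul_neg, smul_sub, Finset.sum_neg_distrib, Finset.sum_sub_distrib, hperm, hμ0,
      smul_zero, sub_self, neg_zero]
  have hyS : y ∈ S := by
    by_cases hS' : S = ⊤
    · rw [hS']; exact Subgroup.mem_top y
    have h1 : S.index = H.index := (hprime _ hS').trans (hprime _ he₁).symm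
    have h2 : S = H := by
      refine le_antisymm hle (Subgroup.relIndex_eq_one.1 ?_)
      have h3 := Subgroup.relIndex_mul_index hle
      rw [h1] at h3
      exact (Nat.mul_eq_right Subgroup.index_ne_zero_of_finite).1 h3
    rw [h2]; exact hy
  have h4 := MulAction.mem_stabilizer_iff.1 hyS
  rw [smul_add, MulAction.mem_stabilizer_iff.1 hy] at h4
  exact hμy (add_left_cancel h4)

end Action

variable {G : Type u} [Group G] [Finite G]

/-- Square-free character degrees. -/
def SqFree (G : Type u) [Group G] : Prop :=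
  ∀ χ : Cfsg.IrrCharacter G, Squarefree (Cfsg.charDegree (χ : G → ℂ))

theorem dvd_prime_of_pow_squarefree {p k d : ℕ} (hp : p.Prime) (hd : d ∣ p ^ k)
    (hsq : Squarefree d) : d ∣ p := by
  obtain ⟨i, -, rfl⟩ := (Nat.dvd_prime_pow hp).1 hd
  rcases Nat.lt_or_ge i 2 with hi | hi
  · conv_rhs => rw [← pow_one p]
    exact pow_dvd_pow p (by omega)
  · exact absurd (hsq p ((pow_two p) ▸ pow_dvd_pow p hi)) (fun h => hp.not_isUnit h)

theorem coprime_card_dual (T : Subgroup G) {p : ℕ} (hp : p.Prime) (hTc : (Nat.card T).Coprime p) :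
    (Nat.card (Additive (T →* ℂˣ))).Coprime p := by
  haveI : Finite (T →* ℂˣ) := ThreePrimes.finite_hom T
  haveI : Finite (Additive (T →* ℂˣ)) := Finite.of_equiv _ Additive.ofMul
  haveI := Fact.mk hp
  rw [Nat.coprime_comm, hp.coprime_iff_not_dvd]
  intro hd
  obtain ⟨e, he⟩ := exists_prime_addOrderOf_dvd_card' p hd
  have h1 : Nat.card T • e = 0 := by
    refine congrArg Additive.ofMul (MonoidHom.ext fun t => ?_)
    rw [MonoidHom.pow_apply, ← map_pow, pow_card_eq_one', map_one, MonoidHom.one_apply]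
  exact hp.not_dvd_one (hTc ▸ Nat.dvd_gcd (he ▸ addOrderOf_dvd_of_nsmul_eq_zero h1) dvd_rfl)

theorem stab_index_dvd (hG : SqFree G) (F T : Subgroup G) [F.Normal] [T.Normal]
    {p : ℕ} [hp : Fact p.Prime] (Q : Subgroup (G ⧸ F)) [Q.Normal] (hQ : IsPGroup p Q)
    (P₀ : Subgroup G) (himg : P₀.map (QuotientGroup.mk' F) = Q)
    (hFT : ∀ f ∈ F, ∃ a, (∀ t ∈ T, a * t = t * a) ∧ ∃ t ∈ T, a * t = f)
    (μ : T →* ℂˣ) :
    ((Char.inertia T fun n : T => (μ n : ℂ)).subgroupOf P₀).index ∣ p := by
  classical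
  haveI := Fintype.ofFinite G
  haveI : Fintype T := Fintype.ofFinite T
  set I := Char.inertia T fun n : T => (μ n : ℂ) with hI
  have hirr := Char.isIrrCharacter_linear μ
  have hFI : F ≤ I := by
    intro f hf
    obtain ⟨a, ha, t, ht, rfl⟩ := hFT f hf
    refine I.mul_mem ?_ (Char.le_inertia T
      (Char.IsCharacter.isClassFunction (Char.IsIrrCharacter.isCharacter hirr)) ht)
    rw [hI, ThreePrimes.mem_inertia_linear]
    intro c d hd
    rw [show d = c from Subtype.ext (by rw [hd, ha c c.2, mul_inv_cancel_right])]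
  have hIeq : (I.map (QuotientGroup.mk' F)).comap (QuotientGroup.mk' F) = I := by
    rw [Subgroup.comap_map_eq, QuotientGroup.ker_mk', sup_eq_left.2 hFI]
  have h1 : (I.subgroupOf P₀).index = (I.map (QuotientGroup.mk' F)).relIndex Q := by
    have h0 := Subgroup.relIndex_comap (H := I.map (QuotientGroup.mk' F)) (QuotientGroup.mk' F) P₀
    rw [hIeq, himg] at h0
    exact h0
  obtain ⟨k, hk⟩ := IsPGroup.iff_card.1 hQ
  rw [h1]
  refine dvd_prime_of_pow_squarefree hp.out (hk ▸ Subgroup.relIndex_dvd_card _ _) ?_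
  obtain ⟨χ, hχ⟩ := Char.Ito.exists_above T ⟨_, hirr⟩
  refine (hG χ).squarefree_of_dvd ?_
  refine dvd_trans ?_ (ThreePrimes.orbit_dvd T χ hirr hχ)
  refine (SolvStruct.relIndex_dvd_index_of_normal_right _ Q).trans ?_
  exact Subgroup.index_map_dvd I (QuotientGroup.mk'_surjective F)

theorem exists_kernel_linear (T : Subgroup G) [T.Normal] {p : ℕ} [hp : Fact p.Prime]
    (hTc : (Nat.card T).Coprime p) (P₀ : Subgroup G) (hP₀ : IsPGroup p P₀)
    (hidx : ∀ μ : T →* ℂˣ, ((Char.inertia T fun n : T => (μ n : ℂ)).subgroupOf P₀).index ∣ p) :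
    ∃ K : Subgroup P₀, K.index ∣ p ∧
      ∀ y ∈ K, ∀ μ : T →* ℂˣ, (y : G) ∈ Char.inertia T fun n : T => (μ n : ℂ) := by
  letI := ThreePrimes.charAct T P₀
  haveI : Finite (T →* ℂˣ) := ThreePrimes.finite_hom T
  haveI : Finite (Additive (T →* ℂˣ)) := Finite.of_equiv _ Additive.ofMul
  obtain ⟨K, hK, hfix⟩ := exists_kernel (A := P₀) (E := Additive (T →* ℂˣ)) hP₀
    (coprime_card_dual T hp.out hTc)
    (fun e => by rw [ThreePrimes.stabilizer_charAct]; exact hidx (Additive.toMul e))
  refine ⟨K, hK, fun y hy μ => ?_⟩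
  have h2 := MulAction.mem_stabilizer_iff.2 (hfix y hy (Additive.ofMul μ))
  rw [ThreePrimes.stabilizer_charAct, Subgroup.mem_subgroupOf] at h2
  exact h2

/-- Normal `p`-subgroups of the quotient by the Fitting subgroup have order at most `p`. -/
theorem card_normal_dvd [Group.IsSolvable G] (hG : SqFree G) (F : Subgroup G) [F.Normal]
    (hF : F = Cfsg.fittingSubgroup G) {p : ℕ} [hp : Fact p.Prime] (Q : Subgroup (G ⧸ F))
    [Q.Normal] (hQ : IsPGroup p Q) : Nat.card Q ∣ p := by
  classical
  haveI := Fintype.ofFinite G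
  set O := Cfsg.pCore p G with hO
  haveI : O.Normal := FittingCores.pCore_normal p
  haveI : (Cfsg.pPrimeCore p G).Normal := FittingCores.pPrimeCore_normal p
  set T := F ⊓ Cfsg.pPrimeCore p G with hT
  haveI : T.Normal := inferInstance
  have hTc : (Nat.card T).Coprime p :=
    (FittingCores.pPrimeCore_coprime p).coprime_dvd_left (Subgroup.card_dvd_of_le inf_le_right)
  have hOF : O ≤ F := hF ▸ FittingCores.pCore_le_fitting hp.out
  have hOT : ∀ a ∈ O, ∀ t ∈ T, a * t = t * a := by
    intro a ha t ht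
    refine Subgroup.commute_of_normal_of_disjoint O (Cfsg.pPrimeCore p G) inferInstance
      inferInstance (Subgroup.disjoint_of_coprime_natCard ?_) a t ha
      (Subgroup.mem_inf.1 ht).2
    obtain ⟨k, hk⟩ := IsPGroup.iff_card.1 (FittingCores.pCore_isPGroup (G := G) p)
    rw [hO, hk]
    exact (FittingCores.pPrimeCore_coprime p).symm.pow_left k
  have hFsup : ∀ f ∈ F, ∃ a ∈ O, ∃ t ∈ T, a * t = f := by
    intro f hf
    have h1 : f ∈ O ⊔ Cfsg.pPrimeCore p G := by
      have h2 := FittingCores.fitting_le_pCore_sup_pPrimeCore (G := G) hp.out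
      exact h2 (hF ▸ hf)
    obtain ⟨a, ha, t, ht, rfl⟩ := Subgroup.mem_sup_of_normal_left.1 h1
    refine ⟨a, ha, t, Subgroup.mem_inf.2 ⟨?_, ht⟩, rfl⟩
    have := mul_mem (inv_mem (hOF ha)) hf
    rwa [inv_mul_cancel_left] at this
  set π := QuotientGroup.mk' F with hπ
  set X := Q.comap π with hX
  haveI : X.Normal := inferInstance
  have hFX : F ≤ X := fun f hf => by
    rw [hX, Subgroup.mem_comap, hπ, show QuotientGroup.mk' F f = 1 from
      (QuotientGroup.eq_one_iff f).2 hf]
    exact Q.one_mem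
  let P : Sylow p X := default
  set P₀ := (P : Subgroup X).map X.subtype with hP₀
  have hP₀p : IsPGroup p P₀ := P.isPGroup'.map _
  have himg : P₀.map π = Q := by
    let g : X →* Q := (π.comp X.subtype).codRestrict Q fun x => x.2
    have hg : Function.Surjective g := fun y => by
      obtain ⟨x, hx⟩ := QuotientGroup.mk_surjective (y : G ⧸ F)
      refine ⟨⟨x, ?_⟩, Subtype.ext hx⟩
      show π x ∈ Q
      rw [show π x = (y : G ⧸ F) from hx]
      exact y.2
    have htop : ((P.mapSurjective hg : Sylow p Q) : Subgroup Q) = ⊤ :=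
      ((P.mapSurjective hg).is_maximal' (hQ.to_subgroup ⊤) le_top).symm
    refine le_antisymm ?_ fun y hy => ?_
    · rintro _ ⟨_, ⟨x, -, rfl⟩, rfl⟩
      exact x.2
    · have h1 : (⟨y, hy⟩ : Q) ∈ ((P.mapSurjective hg : Sylow p Q) : Subgroup Q) := by
        rw [htop]; exact Subgroup.mem_top _
      obtain ⟨x, hx, hxy⟩ := h1
      exact ⟨x, ⟨x, hx, rfl⟩, congrArg Subtype.val hxy⟩
  have hXeq : ∀ x ∈ X, ∃ a ∈ P₀, ∃ f ∈ F, a * f = x := by
    intro x hx
    have h1 : π x ∈ P₀.map π := by rw [himg]; exact hx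
    obtain ⟨a, ha, hax⟩ := h1
    exact ⟨a, ha, a⁻¹ * x, QuotientGroup.eq.1 hax, mul_inv_cancel_left a x⟩
  -- every element of `X` has a `p`-power in `T`
  have hXT : ∀ x ∈ X, ∃ k : ℕ, x ^ p ^ k ∈ T := by
    intro x hx
    have h2 : (x : G ⧸ T) ∈ (P₀ ⊔ O).map (QuotientGroup.mk' T) := by
      obtain ⟨a, ha, f, hf, rfl⟩ := hXeq x hx
      obtain ⟨b, hb, t, ht, rfl⟩ := hFsup f hf
      refine ⟨a * b, Subgroup.mul_mem_sup ha hb, ?_⟩
      exact QuotientGroup.eq.2 (by simpa [mul_assoc] using ht)
    obtain ⟨k, hk⟩ := (hP₀p.to_sup_of_normal_right (FittingCores.pCore_isPGroup (G := G) p)).map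
      (QuotientGroup.mk' T) ⟨_, h2⟩
    exact ⟨k, (QuotientGroup.eq_one_iff _).1 (congrArg Subtype.val hk)⟩
  -- elements of `P₀` centralising `T` lie in `F`
  have hfaith : ∀ x ∈ P₀, (∀ t ∈ T, x * t = t * x) → x ∈ F := by
    intro x hx hxt
    set C := X ⊓ Subgroup.centralizer (T : Set G) with hC
    have hxC : x ∈ C := by
      obtain ⟨x', hx', rfl⟩ := hx
      exact ⟨x'.2, Subgroup.mem_centralizer_iff.2 fun t ht => (hxt t ht).symm⟩
    haveI : C.Normal := inferInstance
    rw [hF]
    refine FittingCores.le_fitting (inferInstance : C.Normal) ?_ hxC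
    let f : C →* G ⧸ T := (QuotientGroup.mk' T).comp C.subtype
    haveI : Group.IsNilpotent f.range := by
      refine IsPGroup.isNilpotent (p := p) ?_
      rintro ⟨_, c, rfl⟩
      obtain ⟨k, hk⟩ := hXT c (Subgroup.mem_inf.1 c.2).1
      exact ⟨k, Subtype.ext ((QuotientGroup.eq_one_iff _).2 hk)⟩
    refine Subgroup.isNilpotent_of_ker_le_center f.rangeRestrict fun c hc => ?_
    rw [MonoidHom.ker_rangeRestrict] at hc
    rw [Subgroup.mem_center_iff]
    intro d
    refine Subtype.ext ?_
    exact ((Subgroup.mem_centralizer_iff.1 (Subgroup.mem_inf.1 d.2).2) _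
      ((QuotientGroup.eq_one_iff _).1 hc)).symm
  obtain ⟨K, hK, hKfix⟩ := exists_kernel_linear T hTc P₀ hP₀p fun μ =>
    stab_index_dvd hG F T Q hQ P₀ himg (fun f hf => by
      obtain ⟨a, ha, h'⟩ := hFsup f hf
      exact ⟨a, fun t ht => hOT a ha t ht, h'⟩) μ
  have hKF : ∀ x ∈ K, (x : G) ∈ F := by
    intro x hx
    refine hfaith x x.2 ?_
    set A := Subgroup.zpowers (x : G) with hA
    have hAT : A ≤ Subgroup.normalizer (T : Set G) := Subgroup.le_normalizer_of_normal
    have hcop : (Nat.card A).Coprime (Nat.card T) := by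
      obtain ⟨k, hk⟩ := IsPGroup.iff_card.1 hP₀p
      refine ((hk ▸ (hTc.symm.pow_left k)) : (Nat.card P₀).Coprime (Nat.card T)).coprime_dvd_left
        (Subgroup.card_dvd_of_le (Subgroup.zpowers_le.2 x.2))
    have hnil : Group.IsNilpotent T := by
      haveI := FittingCores.fitting_nilpotent (G := G)
      have hTF : T ≤ Cfsg.fittingSubgroup G := hF ▸ inf_le_left
      exact Group.nilpotent_of_surjective (Subgroup.subgroupOfEquivOfLe hTF).toMonoidHom
        (Subgroup.subgroupOfEquivOfLe hTF).surjective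
    -- `x` acts trivially on the commutator factor group of `T`
    have hcomm : ⁅T, A⁆ ≤ (commutator T).map T.subtype := by
      rw [Subgroup.commutator_le]
      intro t ht a ha
      obtain ⟨i, rfl⟩ := Subgroup.mem_zpowers_iff.1 ha
      set y : P₀ := x ^ i with hy
      have hyK : y ∈ K := zpow_mem hx i
      have ht' : (y : G) * t⁻¹ * (y : G)⁻¹ ∈ T := ‹T.Normal›.conj_mem _ (inv_mem ht) y
      refine ⟨⟨t, ht⟩ * ⟨_, ht'⟩, ?_, by simp [hy, commutatorElement_def, mul_assoc]⟩
      rw [SetLike.mem_coe, ← QuotientGroup.eq_one_iff]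
      by_contra hne
      haveI : IsMulCommutative (Abelianization T) := ⟨⟨fun a b => mul_comm a b⟩⟩
      haveI : Finite (Abelianization T) := inferInstanceAs (Finite (T ⧸ commutator T))
      obtain ⟨l, hl⟩ := ThreePrimes.exists_linear_ne_one (A := Abelianization T)
        (a := Abelianization.of (⟨t, ht⟩ * ⟨_, ht'⟩ : T)) hne
      refine hl ?_
      have h2 := hKfix y hyK (l.comp Abelianization.of)
      rw [ThreePrimes.mem_inertia_linear] at h2
      have h3 : (l.comp Abelianization.of) ⟨_, ht'⟩ = (l.comp Abelianization.of) ⟨t, ht⟩⁻¹ :=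
        h2 (⟨t, ht⟩⁻¹) ⟨_, ht'⟩ rfl
      show (l.comp Abelianization.of) (⟨t, ht⟩ * ⟨_, ht'⟩ : T) = 1
      rw [map_mul, h3, map_inv, mul_inv_cancel]
    have hgen := CoprimeAct.commutator_sup_centralizer hAT hcop (Or.inl inferInstance)
    have htop : (T ⊓ Subgroup.centralizer (A : Set G)).subgroupOf T ⊔ frattini T = ⊤ := by
      rw [eq_top_iff]
      intro t _
      have h5 : (t : G) ∈ (commutator T).map T.subtype ⊔ (T ⊓ Subgroup.centralizer (A : Set G)) :=
        (sup_le_sup_right hcomm _) (by rw [hgen]; exact t.2)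
      haveI : ((commutator T).map T.subtype).Normal :=
        FittingCores.normal_map_of_characteristic inferInstance inferInstance
      obtain ⟨_, ⟨c, hc, rfl⟩, d, hd, hcd⟩ := Subgroup.mem_sup_of_normal_left.1 h5
      have h6 : t = c * ⟨d, hd.1⟩ := Subtype.ext hcd.symm
      rw [h6]
      exact mul_mem (Subgroup.mem_sup_right (SolvStruct.commutator_le_frattini _ hc))
        (Subgroup.mem_sup_left hd)
    intro t ht
    have h7 : (⟨t, ht⟩ : T) ∈ (T ⊓ Subgroup.centralizer (A : Set G)).subgroupOf T := by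
      rw [frattini_nongenerating htop]; exact Subgroup.mem_top _
    exact (Subgroup.mem_centralizer_iff.1 (Subgroup.mem_inf.1 h7).2 x
      (Subgroup.mem_zpowers _))
  have h8 : Nat.card Q = (F.subgroupOf P₀).index := by
    rw [← himg, ← Subgroup.relIndex_ker, hπ, QuotientGroup.ker_mk']
    rfl
  rw [h8]
  exact (Subgroup.index_dvd_of_le hKF).trans hK

/-- The quotient is metabelian. -/
theorem commutator_quot_comm {Y : Type u} [Group Y] [Finite Y] [Group.IsSolvable Y]
    (h : ∀ (p : ℕ), p.Prime → Nat.card (Cfsg.pCore p Y) ∣ p) :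
    derivedSeries Y 2 = ⊥ := by
  set F := Cfsg.fittingSubgroup Y with hF
  have hcyc : ∀ q : Nat.Primes, IsCyclic (Cfsg.pCore (q : ℕ) Y) := fun q => by
    haveI := Fact.mk q.2
    rcases (Nat.dvd_prime q.2).1 (h q q.2) with h1 | h1
    · haveI : Subsingleton (Cfsg.pCore (q : ℕ) Y) := (Nat.card_eq_one_iff_unique.1 h1).1
      infer_instance
    · exact isCyclic_of_prime_card h1
  have h1 : commutator Y ≤ F := by
    refine le_trans ?_ (FittingCores.centralizer_fitting_le (G := Y))
    rw [Subgroup.le_centralizer_iff, FittingCores.fitting_eq_iSup_pCore]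
    refine iSup_le fun q => ?_
    rw [Subgroup.le_centralizer_iff, commutator_def, Subgroup.commutator_le]
    intro a _ b _
    haveI := hcyc q
    set C := Cfsg.pCore (q : ℕ) Y with hC
    haveI : C.Normal := FittingCores.pCore_normal _
    rw [Subgroup.mem_centralizer_iff]
    intro c hc
    obtain ⟨i, hi⟩ := MonoidHom.map_cyclic (Char.conjHom C a)
    obtain ⟨j, hj⟩ := MonoidHom.map_cyclic (Char.conjHom C b)
    have hab : ∀ z : C, Char.conjHom C a (Char.conjHom C b z) =
        Char.conjHom C b (Char.conjHom C a z) := fun z => by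
      rw [hi, hj, hj, hi, ← zpow_mul, ← zpow_mul, mul_comm]
    have h2 := congrArg Subtype.val (hab ⟨(b * a)⁻¹ * c * (b * a), by
      simpa using ‹C.Normal›.conj_mem c hc (b * a)⁻¹⟩)
    simp only [Char.conjHom_coe] at h2
    have h3 : ⁅a, b⁆ * c * ⁅a, b⁆⁻¹ = c := by
      calc ⁅a, b⁆ * c * ⁅a, b⁆⁻¹ = a * (b * ((b * a)⁻¹ * c * (b * a)) * b⁻¹) * a⁻¹ := by
            rw [commutatorElement_def]; group
        _ = b * (a * ((b * a)⁻¹ * c * (b * a)) * a⁻¹) * b⁻¹ := h2
        _ = c := by group
    exact (mul_inv_eq_iff_eq_mul.1 h3).symm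
  have h2 : ⁅F, F⁆ = ⊥ := by
    rw [Subgroup.commutator_eq_bot_iff_le_centralizer, hF, FittingCores.fitting_eq_iSup_pCore]
    refine iSup_le fun q => ?_
    rw [Subgroup.le_centralizer_iff]
    refine iSup_le fun r => ?_
    intro x hx
    rw [Subgroup.mem_centralizer_iff]
    intro y hy
    haveI := Fact.mk q.2
    haveI := Fact.mk r.2
    by_cases hqr : q = r
    · subst hqr
      haveI := hcyc q
      exact congrArg Subtype.val
        (mul_comm' (⟨y, hy⟩ : Cfsg.pCore (q : ℕ) Y) ⟨x, hx⟩)
    · refine Subgroup.commute_of_normal_of_disjoint _ _ (FittingCores.pCore_normal _)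
        (FittingCores.pCore_normal _) ?_ y x hy hx
      refine Subgroup.disjoint_of_coprime_natCard ?_
      refine Nat.Coprime.coprime_dvd_left (h q q.2) (Nat.Coprime.coprime_dvd_right (h r r.2) ?_)
      exact (Nat.coprime_primes q.2 r.2).2 fun e => hqr (Subtype.ext e)
  rw [derivedSeries_succ, derivedSeries_one]
  exact le_bot_iff.1 ((Subgroup.commutator_mono h1 h1).trans h2.le)

theorem derived_two_pCore [Group.IsSolvable G] (hG : SqFree G) {p : ℕ} [hp : Fact p.Prime] :
    ⁅⁅Cfsg.pCore p G, Cfsg.pCore p G⁆, ⁅Cfsg.pCore p G, Cfsg.pCore p G⁆⁆ = ⊥ := by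
  classical
  haveI := Fintype.ofFinite G
  set O := Cfsg.pCore p G with hO
  haveI : O.Normal := FittingCores.pCore_normal p
  haveI := Fintype.ofFinite O
  obtain ⟨k, hk⟩ := IsPGroup.iff_card.1 (FittingCores.pCore_isPGroup (G := G) p)
  have hcd : TwoDegrees.CD O p := by
    intro θ
    obtain ⟨χ, hχ⟩ := Char.Ito.exists_above O θ
    have h1 := (hG χ).squarefree_of_dvd (Char.Ito.dvd_of_over O χ θ hχ)
    exact (Nat.dvd_prime hp.out).1
      (dvd_prime_of_pow_squarefree hp.out (hk ▸ CharX.irr_deg_dvd_card θ) h1)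
  have h2 := TwoDegrees.commutator_abelian hcd hp.out.one_lt
  rw [← Subgroup.map_subtype_commutator O, ← Subgroup.map_commutator,
    Subgroup.map_eq_bot_iff_of_injective _ O.subtype_injective,
    Subgroup.commutator_eq_bot_iff_le_centralizer]
  exact fun a ha => Subgroup.mem_centralizer_iff.2 fun b hb => h2 b hb a ha

theorem derived_two_fitting [Group.IsSolvable G] (hG : SqFree G) :
    ⁅⁅Cfsg.fittingSubgroup G, Cfsg.fittingSubgroup G⁆,
      ⁅Cfsg.fittingSubgroup G, Cfsg.fittingSubgroup G⁆⁆ = ⊥ := by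
  set O : Nat.Primes → Subgroup G := fun q => Cfsg.pCore (q : ℕ) G with hO
  haveI hOn : ∀ q, (O q).Normal := fun q => FittingCores.pCore_normal _
  have hdiff : ∀ q r, q ≠ r → O q ≤ Subgroup.centralizer (O r : Set G) := by
    intro q r hqr x hx
    rw [Subgroup.mem_centralizer_iff]
    intro y hy
    refine Subgroup.commute_of_normal_of_disjoint _ _ (hOn r) (hOn q) ?_ y x hy hx
    haveI := Fact.mk q.2
    haveI := Fact.mk r.2
    exact IsPGroup.disjoint_of_ne r q (fun e => hqr (Subtype.ext e).symm) _ _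
      (FittingCores.pCore_isPGroup _) (FittingCores.pCore_isPGroup _)
  set D := ⨆ q, ⁅O q, O q⁆ with hD
  haveI : D.Normal := Subgroup.iSup_normal fun q => ⁅O q, O q⁆
  have h1 : ⁅Cfsg.fittingSubgroup G, Cfsg.fittingSubgroup G⁆ ≤ D := by
    rw [FittingCores.fitting_eq_iSup_pCore]
    rw [← QuotientGroup.ker_mk' D, ← Subgroup.map_eq_bot_iff, Subgroup.map_commutator,
      Subgroup.map_iSup, Subgroup.commutator_eq_bot_iff_le_centralizer]
    refine iSup_le fun q => ?_
    rw [Subgroup.le_centralizer_iff]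
    refine iSup_le fun r => ?_
    rw [← Subgroup.commutator_eq_bot_iff_le_centralizer, ← Subgroup.map_commutator,
      Subgroup.map_eq_bot_iff, QuotientGroup.ker_mk']
    by_cases hqr : r = q
    · subst hqr; exact le_iSup (fun i => ⁅O i, O i⁆) r
    · show ⁅O r, O q⁆ ≤ D
      rw [Subgroup.commutator_eq_bot_iff_le_centralizer.2 (hdiff r q hqr)]
      exact bot_le
  refine le_bot_iff.1 ((Subgroup.commutator_mono h1 h1).trans ?_)
  rw [le_bot_iff, Subgroup.commutator_eq_bot_iff_le_centralizer]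
  refine iSup_le fun q => ?_
  rw [Subgroup.le_centralizer_iff]
  refine iSup_le fun r => ?_
  by_cases hqr : r = q
  · subst hqr
    haveI := Fact.mk r.2
    exact Subgroup.commutator_eq_bot_iff_le_centralizer.1 (derived_two_pCore hG)
  · exact (Subgroup.commutator_le_self _).trans ((hdiff r q hqr).trans
      (Subgroup.centralizer_le (Subgroup.commutator_le_self _)))

theorem derived_four [Group.IsSolvable G] (hG : SqFree G) : derivedSeries G 4 = ⊥ := by
  set F := Cfsg.fittingSubgroup G with hF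
  haveI hFn : F.Normal := FittingCores.fitting_normal
  have hq : derivedSeries (G ⧸ F) 2 = ⊥ := by
    haveI : Group.IsSolvable (G ⧸ F) := Group.isSolvable_of_surjective (QuotientGroup.mk'_surjective F)
    refine commutator_quot_comm fun p hp => ?_
    haveI := Fact.mk hp
    haveI : (Cfsg.pCore p (G ⧸ F)).Normal := FittingCores.pCore_normal p
    exact card_normal_dvd hG F hF _ (FittingCores.pCore_isPGroup p)
  have h2 : derivedSeries G 2 ≤ F := by
    rw [← QuotientGroup.ker_mk' F, ← Subgroup.map_eq_bot_iff,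
      map_derivedSeries_eq (QuotientGroup.mk'_surjective F), hq]
  rw [derivedSeries_succ, derivedSeries_succ]
  exact le_bot_iff.1 ((Subgroup.commutator_mono (Subgroup.commutator_mono h2 h2)
    (Subgroup.commutator_mono h2 h2)).trans (derived_two_fitting hG).le)

end Cfsg.Agent.SquarefreeDeg
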